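import Groth.Agent.AdicGrLib.Ring

/-!
Completion, and surjectivity from the associated graded map.
-/

universe u v

namespace Groth.Agent.AdicGrLib

open AssocGr

theorem kerFilt_map_bijective {A : Type u} [CommRing A] (I : Ideal A) :
    Function.Bijective (map (isFiltHom_kerFilt I)) := by
  refine ⟨map_injective _ fun n a _ ha => ?_, (map_surjective_iff _).2 fun n x hx => ?_⟩
  · rw [mem_kerFilt_iff_val, AdicCompletion.algebraMap_apply, Algebra.algebraMap_self, RingHom.id_apply,
      AdicCompletion.of_apply, Submodule.mkQ_apply, Submodule.Quotient.mk_eq_zero] at ha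
    change a ∈ (I ^ (n + 1) • ⊤ : Ideal A) at ha
    rwa [pow_smul_top] at ha
  · rw [mem_kerFilt_iff_val] at hx
    obtain ⟨a, ha⟩ := Ideal.Quotient.mk_surjective (x.val (n + 1))
    have ha' : a ∈ I ^ n := by
      have h1 := AdicCompletion.transitionMap_comp_eval_apply I A (Nat.le_add_right n 1) x
      rw [← ha, hx] at h1
      change Ideal.Quotient.mk (I ^ n • ⊤ : Ideal A) a = 0 at h1
      rwa [Ideal.Quotient.eq_zero_iff_mem, pow_smul_top] at h1
    refine ⟨a, ha', ?_⟩
    rw [mem_kerFilt_iff_val, AdicCompletion.algebraMap_apply, Algebra.algebraMap_self, RingHom.id_apply]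
    show x.val (n + 1) - Submodule.mkQ (I ^ (n + 1) • ⊤ : Ideal A) a = 0
    rw [← ha, Submodule.mkQ_apply]
    exact sub_self _

variable {A : Type u} {B : Type v} [CommRing A] [CommRing B] {φ : A →+* B} {I : Ideal A} {J : Ideal B}

theorem exists_limit [hA : IsPrecomplete I A] {e : ℕ → A} (he : ∀ j, e j ∈ I ^ j) :
    ∃ L : A, ∀ n, L - ∑ j ∈ Finset.range n, e j ∈ I ^ n := by
  obtain ⟨L, hL⟩ := hA.prec (f := fun n => ∑ j ∈ Finset.range n, e j) (fun {m n} hmn => by
    rw [SModEq.sub_mem, pow_smul_top]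
    rw [← Finset.sum_range_add_sum_Ico _ hmn, sub_add_cancel_left]
    exact neg_mem (Ideal.sum_mem _ fun j hj => Ideal.pow_le_pow_right (Finset.mem_Ico.1 hj).1 (he j)))
  refine ⟨L, fun n => ?_⟩
  have := (SModEq.sub_mem.1 (hL n))
  rw [pow_smul_top] at this
  rw [← neg_sub]
  exact neg_mem this

theorem surjective_of_gr (hIJ : I.map φ ≤ J) [hA : IsPrecomplete I A] [hB : IsHausdorff J B]
    (h : Function.Surjective (map (IsFiltHom.adic hIJ))) :
    Function.Surjective φ ∧ I.map φ = J ∧ IsAdicComplete J B := by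
  classical
  have hd : ∀ n, ∀ b ∈ J ^ n, ∃ a ∈ I ^ n, b - φ a ∈ J ^ (n + 1) := (map_surjective_iff _).1 h
  have hle : ∀ n, ∀ a ∈ I ^ n, φ a ∈ J ^ n := fun n a ha => IsFiltHom.adic hIJ n ha
  have hlift : ∀ n, ∀ b ∈ J ^ n, ∃ a ∈ I ^ n, φ a = b := by
    intro n b hb
    choose a ha hab using hd
    let s : ℕ → B := fun j => Nat.rec b (fun i r => if hr : r ∈ J ^ (n + i) then r - φ (a (n + i) r hr) else r) j
    have hs : ∀ j, s j ∈ J ^ (n + j) := by
      intro j
      induction j with
      | zero => exact hb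
      | succ j ih =>
        show (if hr : s j ∈ J ^ (n + j) then s j - φ (a (n + j) (s j) hr) else s j) ∈ _
        rw [dif_pos ih]
        exact hab (n + j) (s j) ih
    let e : ℕ → A := fun j => a (n + j) (s j) (hs j)
    have hse : ∀ j, s (j + 1) = s j - φ (e j) := fun j => by
      show (if hr : s j ∈ J ^ (n + j) then s j - φ (a (n + j) (s j) hr) else s j) = _
      rw [dif_pos (hs j)]
    have hsum : ∀ j, φ (∑ i ∈ Finset.range j, e i) = b - s j := by
      intro j
      induction j with
      | zero => rw [Finset.sum_range_zero, map_zero]; exact (sub_self b).symm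
      | succ j ih => rw [Finset.sum_range_succ, map_add, ih, hse]; ring
    have he : ∀ j, e j ∈ I ^ (n + j) := fun j => ha _ _ _
    obtain ⟨L, hL⟩ := exists_limit (fun j => Ideal.pow_le_pow_right (Nat.le_add_left j n) (he j))
    refine ⟨L, ?_, sub_eq_zero.1 (hB.haus (φ L - b) fun j => ?_)⟩
    · rw [show L = (L - ∑ i ∈ Finset.range n, e i) + ∑ i ∈ Finset.range n, e i by ring]
      exact add_mem (hL n) (Ideal.sum_mem _ fun i _ => Ideal.pow_le_pow_right (Nat.le_add_right n i) (he i))
    · rw [SModEq.sub_mem, sub_zero, pow_smul_top,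
        show φ L - b = φ (L - ∑ i ∈ Finset.range j, e i) - s j by rw [map_sub, hsum]; ring]
      exact sub_mem (hle j _ (hL j)) (Ideal.pow_le_pow_right (Nat.le_add_left j n) (hs j))
  refine ⟨fun b => ?_, le_antisymm hIJ fun b hb => ?_, ?_⟩
  · obtain ⟨a, -, ha⟩ := hlift 0 b (by simp)
    exact ⟨a, ha⟩
  · obtain ⟨a, ha, rfl⟩ := hlift 1 b (by rwa [pow_one])
    exact Ideal.mem_map_of_mem φ (by rwa [pow_one] at ha)
  · have hpre : IsPrecomplete J B := ⟨fun f hf => by
      have hf' : ∀ m, f (m + 1) - f m ∈ J ^ m := fun m => by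
        have := SModEq.sub_mem.1 (hf (Nat.le_succ m))
        rw [pow_smul_top] at this
        rw [← neg_sub]
        exact neg_mem this
      choose e he hφe using fun m => hlift m _ (hf' m)
      obtain ⟨a₀, -, ha₀⟩ := hlift 0 (f 0) (by simp)
      obtain ⟨L, hL⟩ := exists_limit he
      refine ⟨φ (a₀ + L), fun m => ?_⟩
      rw [SModEq.sub_mem, pow_smul_top]
      have hs : f m = φ (a₀ + ∑ j ∈ Finset.range m, e j) := by
        rw [map_add, map_sum, ha₀, Finset.sum_congr rfl fun j _ => hφe j, Finset.sum_range_sub]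
        ring
      rw [hs, ← map_sub, show a₀ + ∑ j ∈ Finset.range m, e j - (a₀ + L) =
        -(L - ∑ j ∈ Finset.range m, e j) by ring, map_neg]
      exact neg_mem (hle m _ (hL m))⟩
    exact { toIsHausdorff := hB, toIsPrecomplete := hpre }

end Groth.Agent.AdicGrLib
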