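import Groth.Prelude.Def_AssocGrMod
import Groth.Agent.AdicGrLib.Complete
import Mathlib.RingTheory.Noetherian.Defs

/-!
Generation of a module from generation of its associated graded module.
-/

universe u

open Polynomial

namespace Groth.Agent.AdicGrLib

open AssocGr

variable {A : Type u} [CommRing A] {I : Ideal A} {M : Type u} [AddCommGroup M] [Module A M]
  (F : I.Filtration M)

theorem N_anti {m n : ℕ} (h : m ≤ n) : F.N n ≤ F.N m := F.antitone h

variable {k : ℕ} (d : Fin k → ℕ) (x : (i : Fin k) → ↥(F.N (d i)))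

/-- one step of successive approximation -/
theorem exists_step {n : ℕ} {y : M} (hy : y ∈ F.N n)
    (hgen : (inDegM F n ⟨y, hy⟩ : GrMod F) ∈
      Submodule.span (GrRing (FiltBl.IdealFiltration.adic I))
        (Set.range fun i => (inDegM F (d i) (x i) : GrMod F))) :
    ∃ c : Fin k → A, (∀ i, c i ∈ I ^ (n - d i)) ∧ y - ∑ i, c i • (x i : M) ∈ F.N (n + 1) := by
  classical
  obtain ⟨g, hg⟩ := (Submodule.mem_span_range_iff_exists_fun _).1 hgen
  choose f hf using fun i => mkG_surjective (FiltBl.IdealFiltration.adic I) (g i)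
  simp only [← hf, coe_inDegM, mkG_smul_mkGM] at hg
  rw [← map_sum, ← sub_eq_zero, ← map_sub, mkGM_eq_zero_iff, mem_succMod_iff] at hg
  have h := hg n
  rw [← ReesM.coeffHom_apply, map_sub, map_sum] at h
  simp only [ReesM.coeffHom_apply, ReesM.coeff_smul, ReesM.coeff_monomM, smul_ite, smul_zero] at h
  refine ⟨fun i => if d i ≤ n then (f i : A[X]).coeff (n - d i) else 0, fun i => ?_, ?_⟩
  · dsimp only
    split_ifs
    · exact (f i).2 _
    · exact zero_mem _
  · simp only [if_true] at h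
    rw [← neg_sub]
    refine neg_mem ?_
    refine (Eq.subst (motive := fun t => t - y ∈ F.N (n + 1)) ?_ h)
    refine Finset.sum_congr rfl fun i _ => ?_
    dsimp only
    split_ifs with hdi
    · rw [Finset.sum_eq_single (n - d i, d i)]
      · rw [if_pos rfl]
      · rintro ⟨a, b⟩ hab hne
        rw [Finset.mem_antidiagonal] at hab
        refine if_neg fun hb => hne ?_
        simp only at hab hb
        subst hb
        exact Prod.ext (by omega) rfl
      · intro hne
        exact absurd (Finset.mem_antidiagonal.2 (by simp; omega)) hne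
    · rw [zero_smul]
      refine Finset.sum_eq_zero fun p hp => if_neg fun hb => ?_
      rw [Finset.mem_antidiagonal] at hp
      omega

variable [IsPrecomplete I A]

/-- a submodule whose initial forms lie in the span of those of the `x i` lies in the span of the `x i` -/
theorem le_span (h0 : F.N 0 = ⊤) (hsep : ⨅ n, F.N n = ⊥) (C : Submodule A M)
    (hx : ∀ i, (x i : M) ∈ C)
    (hgen : ∀ (n : ℕ) (y : F.N n), (y : M) ∈ C → (inDegM F n y : GrMod F) ∈
      Submodule.span (GrRing (FiltBl.IdealFiltration.adic I))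
        (Set.range fun i => (inDegM F (d i) (x i) : GrMod F))) :
    C ≤ Submodule.span A (Set.range fun i => (x i : M)) := by
  classical
  intro y hy
  have hstep : ∀ (n : ℕ) (z : M), ∃ c : Fin k → A, (∀ i, c i ∈ I ^ (n - d i)) ∧
      (z ∈ C → z ∈ F.N n → z - ∑ i, c i • (x i : M) ∈ F.N (n + 1)) := by
    intro n z
    by_cases hz : z ∈ C ∧ z ∈ F.N n
    · obtain ⟨c, hc, hc'⟩ := exists_step F d x hz.2 (hgen n ⟨z, hz.2⟩ hz.1)
      exact ⟨c, hc, fun _ _ => hc'⟩
    · exact ⟨0, fun i => zero_mem _, fun h1 h2 => absurd ⟨h1, h2⟩ hz⟩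
  choose c hc hc' using hstep
  let s : ℕ → M := fun j => Nat.rec y (fun i r => r - ∑ l, c i r l • (x l : M)) j
  have hs : ∀ j, s j ∈ C ∧ s j ∈ F.N j := by
    intro j
    induction j with
    | zero => exact ⟨hy, h0 ▸ Submodule.mem_top⟩
    | succ j ih =>
      exact ⟨sub_mem ih.1 (sum_mem fun l _ => C.smul_mem _ (hx l)), hc' j (s j) ih.1 ih.2⟩
  have hsum : ∀ j, ∑ l, (∑ i ∈ Finset.range j, c i (s i) l) • (x l : M) = y - s j := by
    intro j
    induction j with
    | zero =>
      simp only [Finset.sum_range_zero, zero_smul, Finset.sum_const_zero]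
      exact (sub_self y).symm
    | succ j ih =>
      simp only [Finset.sum_range_succ, add_smul, Finset.sum_add_distrib, ih]
      show _ = y - (s j - ∑ l, c j (s j) l • (x l : M))
      abel
  have hlim : ∀ l, ∃ L : A, ∀ n, L - ∑ i ∈ Finset.range (d l + n), c i (s i) l ∈ I ^ n := by
    intro l
    obtain ⟨L, hL⟩ := exists_limit (I := I) (e := fun j => c (d l + j) (s (d l + j)) l)
      (fun j => by simpa using hc (d l + j) (s (d l + j)) l)
    refine ⟨(∑ i ∈ Finset.range (d l), c i (s i) l) + L, fun n => ?_⟩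
    rw [Finset.sum_range_add, add_sub_add_left_eq_sub]
    exact hL n
  choose L hL using hlim
  have hy' : y - ∑ l, L l • (x l : M) ∈ ⨅ n, F.N n := by
    rw [Submodule.mem_iInf]
    intro n
    have e : y - ∑ l, L l • (x l : M) = s n + ∑ l, (∑ i ∈ Finset.range n, c i (s i) l - L l) • (x l : M) := by
      simp only [sub_smul, Finset.sum_sub_distrib, hsum n]
      abel
    rw [e]
    refine add_mem (hs n).2 (sum_mem fun l _ => ?_)
    rw [show (∑ i ∈ Finset.range n, c i (s i) l - L l) • (x l : M) =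
      -((L l - ∑ i ∈ Finset.range (d l + n), c i (s i) l) • (x l : M)) -
        (∑ i ∈ Finset.Ico n (d l + n), c i (s i) l) • (x l : M) by
      rw [← Finset.sum_range_add_sum_Ico _ (show n ≤ d l + n by omega)]
      module]
    refine sub_mem (neg_mem ?_) ?_
    · exact N_anti F (Nat.le_add_right n (d l))
        (F.pow_smul_le n (d l) (Submodule.smul_mem_smul (hL l n) (x l).2))
    · rw [Finset.sum_smul]
      refine sum_mem fun i hi => ?_
      exact N_anti F (by have := (Finset.mem_Ico.1 hi).1; omega)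
        (F.pow_smul_le (i - d l) (d l) (Submodule.smul_mem_smul (hc i (s i) l) (x l).2))
  rw [hsep, Submodule.mem_bot, sub_eq_zero] at hy'
  rw [hy']
  exact sum_mem fun l _ => Submodule.smul_mem _ _ (Submodule.subset_span ⟨l, rfl⟩)

omit [IsPrecomplete I A] in
/-- homogeneous elements generate -/
theorem span_inDegM_eq_top :
    Submodule.span (GrRing (FiltBl.IdealFiltration.adic I))
      {g : GrMod F | ∃ (n : ℕ) (y : F.N n), (y : M) ∈ (⊤ : Submodule A M) ∧ (inDegM F n y : GrMod F) = g} = ⊤ := by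
  rw [eq_top_iff]
  intro g _
  obtain ⟨z, rfl⟩ := mkGM_surjective F g
  rw [← sum_termM F z, map_sum]
  exact sum_mem fun n _ => Submodule.subset_span ⟨n, ⟨_, ReesM.coeff_mem F z n⟩, Submodule.mem_top, rfl⟩

/-- finitely many initial forms suffice -/
theorem exists_finite_generators (h0 : F.N 0 = ⊤) (hsep : ⨅ n, F.N n = ⊥) (C : Submodule A M)
    (hfg : (Submodule.span (GrRing (FiltBl.IdealFiltration.adic I))
      {g : GrMod F | ∃ (n : ℕ) (y : F.N n), (y : M) ∈ C ∧ (inDegM F n y : GrMod F) = g}).FG) :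
    C.FG := by
  classical
  obtain ⟨s, hs, hspan⟩ := (Submodule.fg_span_iff_fg_span_finset_subset _).1 hfg
  choose n y hy hyg using fun g : {g // g ∈ s} => hs g.2
  let e := s.equivFin.symm
  have h := le_span F (fun i => n (e i)) (fun i => y (e i)) h0 hsep C (fun i => hy (e i)) fun m z hz => by
    have hz' : (inDegM F m z : GrMod F) ∈ Submodule.span (GrRing (FiltBl.IdealFiltration.adic I)) (↑s : Set (GrMod F)) :=
      hspan ▸ Submodule.subset_span ⟨m, z, hz, rfl⟩
    refine Submodule.span_mono ?_ hz'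
    intro g hg
    exact ⟨e.symm ⟨g, hg⟩, by
      show (inDegM F (n (e (e.symm ⟨g, hg⟩))) (y (e (e.symm ⟨g, hg⟩))) : GrMod F) = g
      rw [Equiv.apply_symm_apply]
      exact hyg ⟨g, hg⟩⟩
  have heq : Submodule.span A (Set.range fun i => (y (e i) : M)) = C :=
    le_antisymm (Submodule.span_le.2 fun _ ⟨i, hi⟩ => hi ▸ hy (e i)) h
  rw [← heq]
  exact Submodule.fg_span (Set.finite_range _)

theorem closed_submodule (h0 : F.N 0 = ⊤) (hsep : ⨅ n, F.N n = ⊥)
    [IsNoetherian (GrRing (FiltBl.IdealFiltration.adic I)) (GrMod F)] (M' : Submodule A M) :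
    ⨅ n, M' ⊔ F.N n = M' := by
  classical
  refine le_antisymm ?_ (le_iInf fun n => le_sup_left)
  obtain ⟨s, hs, hspan⟩ := (Submodule.fg_span_iff_fg_span_finset_subset _).1
    (IsNoetherian.noetherian (Submodule.span (GrRing (FiltBl.IdealFiltration.adic I))
      {g : GrMod F | ∃ (n : ℕ) (y : F.N n), (y : M) ∈ M' ∧ (inDegM F n y : GrMod F) = g}))
  choose n y hy hyg using fun g : {g // g ∈ s} => hs g.2
  let e := s.equivFin.symm
  have hle : M' ≤ ⨅ n, M' ⊔ F.N n := le_iInf fun n => le_sup_left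
  refine (le_span F (fun i => n (e i)) (fun i => y (e i)) h0 hsep (⨅ n, M' ⊔ F.N n)
    (fun i => hle (hy (e i))) fun m z hz => ?_).trans (Submodule.span_le.2 fun _ ⟨i, hi⟩ => hi ▸ hy (e i))
  obtain ⟨a, ha, b, hb, hab⟩ := Submodule.mem_sup.1 ((Submodule.mem_iInf _).1 hz (m + 1))
  have ha' : a ∈ F.N m := by
    rw [eq_sub_of_add_eq hab]
    exact sub_mem z.2 (N_anti F (Nat.le_succ m) hb)
  have hz' : (inDegM F m z : GrMod F) = (inDegM F m ⟨a, ha'⟩ : GrMod F) := by
    rw [← sub_eq_zero, ← AddSubgroup.coe_sub, ← map_sub, ZeroMemClass.coe_eq_zero, inDegM_eq_zero_iff]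
    show (z : M) - a ∈ _
    rw [← hab, add_sub_cancel_left]
    exact hb
  rw [hz']
  have hmem : (inDegM F m ⟨a, ha'⟩ : GrMod F) ∈ Submodule.span (GrRing (FiltBl.IdealFiltration.adic I)) (↑s : Set (GrMod F)) :=
    hspan ▸ Submodule.subset_span ⟨m, ⟨a, ha'⟩, ha, rfl⟩
  refine Submodule.span_mono ?_ hmem
  intro g hg
  exact ⟨e.symm ⟨g, hg⟩, by
    show (inDegM F (n (e (e.symm ⟨g, hg⟩))) (y (e (e.symm ⟨g, hg⟩))) : GrMod F) = g
    rw [Equiv.apply_symm_apply]
    exact hyg ⟨g, hg⟩⟩

end Groth.Agent.AdicGrLib
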