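import Groth.Prelude.Def_GrMap2
import Mathlib.RingTheory.AdicCompletion.Basic

/-!
Lifting along maps of associated graded rings.
-/

universe u v

open Polynomial

namespace Groth.Agent.AdicGrLib

open AssocGr

variable {A : Type u} {B : Type v} [CommRing A] [CommRing B] {φ : A →+* B}
  {𝓕 : FiltBl.IdealFiltration A} {𝓖 : FiltBl.IdealFiltration B} (h : IsFiltHom φ 𝓕 𝓖)

theorem map_surjective_iff :
    Function.Surjective (map h) ↔ ∀ n, ∀ b ∈ 𝓖.F n, ∃ a ∈ 𝓕.F n, b - φ a ∈ 𝓖.F (n + 1) := by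
  constructor
  · intro hs n b hb
    obtain ⟨g, hg⟩ := hs (inDeg 𝓖 n ⟨b, hb⟩ : GrRing 𝓖)
    obtain ⟨f, rfl⟩ := mkG_surjective 𝓕 g
    rw [map_mkG, coe_inDeg, ← sub_eq_zero, ← map_sub, mkG_eq_zero_iff, mem_succIdeal_iff] at hg
    refine ⟨(f : A[X]).coeff n, f.2 n, ?_⟩
    have h' := hg n
    rw [Subalgebra.coe_sub, coe_reesMap, coe_coe_monom, coeff_sub, coeff_map, coeff_monomial,
      if_pos rfl] at h'
    rw [← neg_sub]
    exact neg_mem h'
  · intro hd x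
    obtain ⟨g, rfl⟩ := mkG_surjective 𝓖 x
    rw [← sum_term 𝓖 g, map_sum]
    have key : ∀ n, ∃ y, map h y = mkG 𝓖 (term 𝓖 g n) := by
      intro n
      obtain ⟨a, ha, hab⟩ := hd n _ (g.2 n)
      refine ⟨(inDeg 𝓕 n ⟨a, ha⟩ : GrRing 𝓕), ?_⟩
      rw [map_inDeg, mkG_term, eq_comm, ← sub_eq_zero, ← Submodule.coe_sub, ← map_sub,
        Submodule.coe_eq_zero, inDeg_eq_zero_iff]
      exact hab
    choose y hy using key
    exact ⟨∑ n ∈ ((g : B[X])).support, y n, by rw [map_sum]; exact Finset.sum_congr rfl fun n _ => hy n⟩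

theorem map_injective (hd : ∀ n, ∀ a ∈ 𝓕.F n, φ a ∈ 𝓖.F (n + 1) → a ∈ 𝓕.F (n + 1)) :
    Function.Injective (map h) := by
  rw [injective_iff_map_eq_zero]
  intro x hx
  obtain ⟨f, rfl⟩ := mkG_surjective 𝓕 x
  rw [map_mkG, mkG_eq_zero_iff] at hx
  rw [mkG_eq_zero_iff]
  intro n
  refine hd n _ (f.2 n) ?_
  have := hx n
  rwa [coe_reesMap, coeff_map] at this

theorem isDomain_of_isDomain_grRing (hsep : ⨅ n, 𝓕.F n = ⊥) [IsDomain (GrRing 𝓕)] : IsDomain A := by
  classical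
  have : Nontrivial A := by
    by_contra hA
    rw [not_nontrivial_iff_subsingleton] at hA
    have : Subsingleton (GrRing 𝓕) :=
      subsingleton_of_zero_eq_one (by
        rw [← map_one (algebraMap A (GrRing 𝓕)), Subsingleton.elim (1 : A) 0, map_zero])
    exact not_subsingleton (GrRing 𝓕) this
  have hord : ∀ a : A, a ≠ 0 → ∃ n, ∃ h : a ∈ 𝓕.F n, inDeg 𝓕 n ⟨a, h⟩ ≠ 0 := by
    intro a ha
    have hex : ∃ n, a ∉ 𝓕.F n := by
      by_contra! hall
      exact ha ((Submodule.mem_bot A).1 (hsep ▸ Submodule.mem_iInf _ |>.2 hall))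
    have h0 : 1 ≤ Nat.find hex := by
      by_contra hlt
      have h0' := Nat.find_spec hex
      rw [show Nat.find hex = 0 by omega, 𝓕.zero_eq] at h0'
      exact h0' trivial
    obtain ⟨n, hn⟩ := Nat.exists_eq_add_of_le' h0
    refine ⟨n, not_not.1 (Nat.find_min hex (by omega)), fun hz => ?_⟩
    rw [inDeg_eq_zero_iff, ← hn] at hz
    exact Nat.find_spec hex hz
  have : NoZeroDivisors A := ⟨fun {a b} hab => by
    by_contra! hne
    obtain ⟨m, hm, hm'⟩ := hord a hne.1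
    obtain ⟨n, hn, hn'⟩ := hord b hne.2
    have hmul := coe_inDeg_mul 𝓕 m n ⟨a, hm⟩ ⟨b, hn⟩
    rw [show (⟨a * b, _⟩ : 𝓕.F (m + n)) = 0 from Subtype.ext hab, map_zero, Submodule.coe_zero,
      mul_eq_zero] at hmul
    rcases hmul with h1 | h1
    · exact hm' (Subtype.ext h1)
    · exact hn' (Subtype.ext h1)⟩
  exact NoZeroDivisors.to_isDomain A

end Groth.Agent.AdicGrLib
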